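import Groth.Agent.Verlinde.Schur

/-! Duality of character determinants and partitions as strictly decreasing vectors. -/

namespace Groth.Agent.Verlinde

open Finset Matrix

variable {n r : ℕ} [NeZero n]

theorem D_comm (a w : Fin r → ZMod n) : D a w = D w a := by
  rw [D, D, ← Matrix.det_transpose]
  congr 1
  ext i j
  simp [mul_comm]

/-- The exponent vector of a partition. -/
def expo (n r : ℕ) (μ : Fin r → ℕ) (i : Fin r) : ZMod n := ((μ i + (r - 1 - (i : ℕ)) : ℕ) : ZMod n)

theorem schur_eq (z : Fin r → ℂ) (v : Fin r → ℕ)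
    (hz : ∀ j, z j = ZMod.stdAddChar ((v j : ℕ) : ZMod n)) (μ : Fin r → ℕ) :
    (Matrix.of fun i j : Fin r => z j ^ (μ i + (r - 1 - (i : ℕ)))).det /
      (Matrix.of fun i j : Fin r => z j ^ (r - 1 - (i : ℕ))).det =
    D (expo n r μ) (fun j => (v j : ZMod n)) / D (del n r) (fun j => (v j : ZMod n)) := by
  simp only [hz]
  rw [D_pow, D_pow]
  rfl

/-- The dual partition gives the negated point. -/
theorem D_dual {k : ℕ} (hn : n = r + k) (μ : Fin r → ℕ) (hμ : ∀ i, μ i ≤ k) (w : Fin r → ZMod n) :
    D (expo n r fun i => k - μ (Fin.rev i)) w =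
      ((Equiv.Perm.sign (Fin.revPerm : Equiv.Perm (Fin r)) : ℤ) : ℂ) *
        ZMod.stdAddChar (-∑ j, w j) * D (expo n r μ) (-w) := by
  have h : expo n r (fun i => k - μ (Fin.rev i)) =
      fun i => ((-expo n r μ) ∘ Fin.revPerm) i + -1 := by
    funext i
    have h1 : (k - μ i.rev + (r - 1 - (i : ℕ))) + (μ i.rev + (r - 1 - (i.rev : ℕ))) + 1 = n := by
      have := hμ i.rev
      have := i.isLt
      rw [Fin.val_rev]
      omega
    have h2 := congrArg (fun x : ℕ => (x : ZMod n)) h1
    simp only [Nat.cast_add, Nat.cast_one, ZMod.natCast_self] at h2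
    simp only [expo, Function.comp_apply, Pi.neg_apply, Fin.revPerm_apply, Nat.cast_add]
    linear_combination h2
  rw [h, D_shift_left, D_perm_left, D_neg, neg_one_mul]
  ring

theorem sum_sorted (F : (Fin r → ZMod n) → ℂ) (hperm : ∀ w (σ : Equiv.Perm (Fin r)), F (w ∘ σ) = F w)
    (hinj : ∀ w, ¬ Function.Injective w → F w = 0) :
    ∑ w, F w = (r.factorial : ℂ) *
      ∑ v ∈ (Finset.univ : Finset (Fin r → Fin n)).filter (fun v : Fin r → Fin n => StrictAnti v),
        F (cls v) := by
  classical
  rw [← Finset.sum_filter_of_ne (p := Function.Injective)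
    (fun w _ hw => by_contra fun h => hw (hinj w h))]
  set S := (Finset.univ : Finset (Fin r → Fin n)).filter (fun v : Fin r → Fin n => StrictAnti v)
  have hp : (r.factorial : ℂ) * ∑ v ∈ S, F (cls v) =
      ∑ x ∈ (Finset.univ : Finset (Equiv.Perm (Fin r))) ×ˢ S, F (cls x.2 ∘ x.1) := by
    rw [Finset.sum_product]
    simp [hperm, Finset.card_univ, Fintype.card_perm]
  rw [hp]
  refine (Finset.sum_bij (fun x _ => cls x.2 ∘ x.1) ?_ ?_ ?_ fun _ _ => rfl).symm
  · rintro ⟨σ, v⟩ hv
    simp only [Finset.mem_product, S, Finset.mem_filter, Finset.mem_univ, true_and] at hv ⊢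
    exact fun i j hij => σ.injective (hv.injective (cls_inj hij))
  · rintro ⟨σ, v⟩ hv ⟨σ', v'⟩ hv' heq
    simp only [Finset.mem_product, S, Finset.mem_filter, Finset.mem_univ, true_and] at hv hv'
    have hvv : ∀ i, v (σ i) = v' (σ' i) := fun i => by
      apply Fin.ext
      have := congrArg ZMod.val (congrFun heq i)
      simp only [Function.comp_apply, cls_apply, ZMod.val_natCast_of_lt (Fin.isLt _)] at this
      exact this
    have hrange : Set.range (v ∘ Fin.rev) = Set.range (v' ∘ Fin.rev) := by
      rw [Fin.rev_surjective.range_comp, Fin.rev_surjective.range_comp]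
      calc Set.range v = Set.range (v ∘ σ) := (σ.surjective.range_comp v).symm
        _ = Set.range (v' ∘ σ') := congrArg Set.range (funext hvv)
        _ = Set.range v' := σ'.surjective.range_comp v'
    have m1 : StrictMono (v ∘ Fin.rev) := fun i j hij => hv (Fin.rev_lt_rev.2 hij)
    have m2 : StrictMono (v' ∘ Fin.rev) := fun i j hij => hv' (Fin.rev_lt_rev.2 hij)
    have heq' : v = v' := by
      have := (StrictMono.range_inj m1 m2).1 hrange
      funext i
      simpa using congrFun this i.rev
    subst heq'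
    exact Prod.ext (Equiv.ext fun i => hv.injective (hvv i)) rfl
  · intro w hw
    simp only [Finset.mem_filter, Finset.mem_univ, true_and] at hw
    let u : Fin r → Fin n := fun i => ⟨(w i).val, ZMod.val_lt _⟩
    have huinj : Function.Injective u := fun i j hij =>
      hw (ZMod.val_injective _ (congrArg Fin.val hij))
    let π : Equiv.Perm (Fin r) := Fin.revPerm.trans (Tuple.sort u)
    have hanti : StrictAnti (u ∘ π) := by
      intro i j hij
      have := ((Tuple.monotone_sort u).strictMono_of_injective
        (huinj.comp (Tuple.sort u).injective)) (Fin.rev_lt_rev.2 hij)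
      simpa [π] using this
    refine ⟨(π.symm, u ∘ π), ?_, ?_⟩
    · simp only [Finset.mem_product, S, Finset.mem_filter, Finset.mem_univ, true_and]
      exact hanti
    · funext i
      simp [cls_apply, u]

/-- Index sets avoiding a point. -/
theorem sum_avoid (a : Fin r → ZMod n) (ha : Function.Injective a) (c : ZMod n) :
    ∑ v ∈ (Finset.univ : Finset (Fin r → Fin n)).filter (fun v : Fin r → Fin n => StrictAnti v),
      (if ∀ j, cls v j ≠ c then G a (-a) 0 (cls v) else 0) = ((n : ℂ) - r) * (n : ℂ) ^ r / n := by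
  classical
  set T : ℂ := ∑ w : Fin r → ZMod n, G a (-a) 0 w with hT
  set Fc : (Fin r → ZMod n) → ℂ := fun w => if ∀ j, w j ≠ c then G a (-a) 0 w else 0 with hF
  have hz : ∀ w : Fin r → ZMod n, ¬ Function.Injective w → G a (-a) 0 w = 0 := fun w hw => by
    simp [G, D_eq_zero a hw]
  have hs := sum_sorted Fc (fun w σ => by
      simp only [hF, Function.comp_apply, G_perm]
      exact if_congr ⟨fun h j => by simpa using h (σ.symm j), fun h j => h _⟩ rfl rfl)
    (fun w hw => by simp [hF, hz w hw])
  have h : ∑ i, a i + ∑ i, (-a) i = (r : ZMod n) * 0 := by simp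
  have hA : ∀ j : Fin r, (n : ℂ) * ∑ w : Fin r → ZMod n, (if w j = c then G a (-a) 0 w else 0) = T := by
    intro j
    have : ∀ x : ZMod n, ∑ w : Fin r → ZMod n, (if w j = x then G a (-a) 0 w else 0) =
        ∑ w : Fin r → ZMod n, (if w j = c then G a (-a) 0 w else 0) := by
      intro x
      rw [← Equiv.sum_comp (Equiv.addRight fun _ : Fin r => x - c)]
      refine Finset.sum_congr rfl fun w _ => ?_
      have := G_add a (-a) h w (x - c)
      simp only [Equiv.coe_addRight, Pi.add_apply, Pi.add_def, this]
      refine if_congr ?_ rfl rfl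
      exact ⟨fun e => by linear_combination e, fun e => by linear_combination e⟩
    calc (n : ℂ) * ∑ w : Fin r → ZMod n, (if w j = c then G a (-a) 0 w else 0)
        = ∑ x : ZMod n, ∑ w : Fin r → ZMod n, (if w j = x then G a (-a) 0 w else 0) := by
          rw [Finset.sum_congr rfl fun x _ => this x]; simp
      _ = _ := by rw [Finset.sum_comm]; simp [hT]
  have hsplit : ∀ w : Fin r → ZMod n,
      G a (-a) 0 w = Fc w + ∑ j, (if w j = c then G a (-a) 0 w else 0) := by
    intro w
    by_cases hw : Function.Injective w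
    · by_cases hc : ∀ j, w j ≠ c
      · simp [hF, hc]
      · push Not at hc
        obtain ⟨j, hj⟩ := hc
        rw [hF, Finset.sum_eq_single j (fun i _ hi => if_neg fun e => hi (hw (e.trans hj.symm)))
          (fun h => absurd (Finset.mem_univ j) h), if_pos hj]
        simp [show ¬ ∀ j, w j ≠ c from fun h => h j hj]
    · simp [hF, hz w hw]
  have hsum : T = ∑ w, Fc w + ∑ j, ∑ w : Fin r → ZMod n, (if w j = c then G a (-a) 0 w else 0) := by
    rw [hT, Finset.sum_congr rfl fun w _ => hsplit w, Finset.sum_add_distrib, Finset.sum_comm (γ := Fin r)]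
  have hn : (n : ℂ) ≠ 0 := Nat.cast_ne_zero.2 (NeZero.ne n)
  have h2 : (n : ℂ) * T = (n : ℂ) * ∑ w, Fc w + (r : ℂ) * T := by
    conv_lhs => rw [hsum, mul_add]
    rw [Finset.mul_sum (a := (n : ℂ)) (s := (Finset.univ : Finset (Fin r))),
      Finset.sum_congr rfl fun j _ => hA j]
    simp
  rw [hs, hT, sum_G_neg a ha] at h2
  have hf : (r.factorial : ℂ) ≠ 0 := Nat.cast_ne_zero.2 r.factorial_ne_zero
  rw [eq_div_iff hn]
  refine mul_left_cancel₀ hf ?_
  linear_combination -h2

theorem strictAnti_gap {v : Fin r → Fin n} (hv : StrictAnti v) {i j : Fin r} (h : i ≤ j) :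
    (v j : ℕ) + ((j : ℕ) - i) ≤ v i := by
  have key : ∀ d : ℕ, ∀ j : Fin r, (j : ℕ) = i + d → (v j : ℕ) + d ≤ v i := by
    intro d
    induction d with
    | zero =>
      intro j hj
      rw [Fin.ext (a := j) (b := i) (by omega), add_zero]
    | succ d ih =>
      intro j hj
      have h1 := ih ⟨i + d, by have := j.isLt; omega⟩ rfl
      have h2 : (v j : ℕ) < v ⟨i + d, by have := j.isLt; omega⟩ := hv (by rw [Fin.lt_def]; simp; omega)
      omega
  rw [Fin.le_def] at h
  exact key _ j (by omega)

/-- Partitions in a box are strictly decreasing vectors. -/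
theorem sum_antitone {M : Type*} [AddCommMonoid M] {K : ℕ} (hKn : K + r ≤ n + 1)
    (f : (Fin r → ℕ) → M) :
    ∑ μ ∈ (Finset.univ : Finset (Fin r → Fin K)).filter (fun μ : Fin r → Fin K => Antitone μ),
        f (fun i => (μ i : ℕ) + (r - 1 - (i : ℕ))) =
      ∑ v ∈ ((Finset.univ : Finset (Fin r → Fin n)).filter (fun v : Fin r → Fin n => StrictAnti v)).filter
          (fun v : Fin r → Fin n => ∀ i, (v i : ℕ) + 1 < K + r),
        f (fun i => (v i : ℕ)) := by
  classical
  refine Finset.sum_bij (fun μ _ i => (⟨(μ i : ℕ) + (r - 1 - (i : ℕ)),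
      by have := (μ i).isLt; have := i.isLt; omega⟩ : Fin n)) ?_ ?_ ?_ ?_
  · intro μ hμ
    simp only [Finset.mem_filter, Finset.mem_univ, true_and] at hμ ⊢
    refine ⟨fun i j hij => ?_, fun i => ?_⟩
    · have h1 : (μ j : ℕ) ≤ μ i := hμ hij.le
      rw [Fin.lt_def] at hij ⊢
      simp only
      have := j.isLt
      omega
    · have := (μ i).isLt; have := i.isLt; omega
  · intro μ _ μ' _ h
    funext i
    have := congrArg Fin.val (congrFun h i)
    simp only at this
    exact Fin.ext (by omega)
  · intro v hv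
    simp only [Finset.mem_filter, Finset.mem_univ, true_and] at hv
    obtain ⟨hv, hb⟩ := hv
    have hlow : ∀ i : Fin r, r - 1 - (i : ℕ) ≤ v i := fun i => by
      have hi := i.isLt
      have := strictAnti_gap hv (i := i) (j := ⟨r - 1, by omega⟩) (by rw [Fin.le_def]; simp; omega)
      simp only at this
      omega
    have hup : ∀ i : Fin r, (v i : ℕ) - (r - 1 - (i : ℕ)) < K := fun i => by
      have hi := i.isLt
      have h1 := strictAnti_gap hv (i := ⟨0, by omega⟩) (j := i) (by rw [Fin.le_def]; simp)
      have h2 := hb ⟨0, by omega⟩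
      have := hlow i
      simp only at h1 h2
      omega
    refine ⟨fun i => ⟨_, hup i⟩, ?_, funext fun i => Fin.ext ?_⟩
    · simp only [Finset.mem_filter, Finset.mem_univ, true_and]
      intro i j hij
      have := strictAnti_gap hv hij
      have := hlow i
      have := hlow j
      rw [Fin.le_def] at hij ⊢
      simp only
      have := j.isLt
      omega
    · have := hlow i
      simp only
      omega
  · intros
    rfl

end Groth.Agent.Verlinde
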