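import Groth.Agent.Verlinde.Basic

/-! Vandermonde identities and the rotation of index vectors. -/

namespace Groth.Agent.Verlinde

open Finset Matrix

variable {n r : ℕ} [NeZero n]

theorem char_natCast (x : ℕ) :
    (ZMod.stdAddChar ((x : ℕ) : ZMod n) : ℂ) = Complex.exp (2 * Real.pi * Complex.I * x / n) := by
  have := ZMod.stdAddChar_coe (N := n) (x : ℤ)
  simpa using this

/-- The staircase exponents. -/
def del (n r : ℕ) (i : Fin r) : ZMod n := ((r - 1 - (i : ℕ) : ℕ) : ZMod n)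

theorem D_pow (μ : Fin r → ℕ) (w : Fin r → ZMod n) :
    (Matrix.of fun i j : Fin r => (ZMod.stdAddChar (w j) : ℂ) ^ μ i).det =
      D (fun i => (μ i : ZMod n)) w := by
  rw [D]
  congr 1
  ext i j
  simp [← AddChar.map_nsmul_eq_pow, nsmul_eq_mul]

theorem D_del (w : Fin r → ZMod n) : D (del n r) w =
    ((Equiv.Perm.sign (Fin.revPerm : Equiv.Perm (Fin r)) : ℤ) : ℂ) *
      (Matrix.vandermonde fun j => (ZMod.stdAddChar (w j) : ℂ)).det := by
  rw [show del n r = fun i : Fin r => ((r - 1 - (i : ℕ) : ℕ) : ZMod n) from rfl, ← D_pow,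
    ← Matrix.det_transpose (Matrix.vandermonde _), ← Matrix.det_permute]
  congr 1
  ext i j
  simp only [Matrix.of_apply, Matrix.submatrix_apply, id_eq, Matrix.transpose_apply,
    Matrix.vandermonde_apply, Fin.revPerm_apply, Fin.val_rev]
  congr 1
  omega

theorem D_neg (a w : Fin r → ZMod n) : D (-a) w = D a (-w) := by
  simp [D, neg_mul]

theorem prod_pairs {M : Type*} [CommMonoid M] (f : Fin r → Fin r → M) :
    ∏ p ∈ (Finset.univ : Finset (Fin r × Fin r)).filter (fun p => p.1 < p.2), f p.1 p.2 =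
      ∏ i, ∏ j ∈ Finset.Ioi i, f i j := by
  rw [Finset.prod_filter, Fintype.prod_prod_type]
  refine Finset.prod_congr rfl fun i _ => ?_
  rw [← Finset.prod_filter]
  exact Finset.prod_congr (Finset.ext fun j => by simp) fun _ _ => rfl

theorem sin_sq (t u : ℂ) :
    (2 * Complex.sin (t - u)) ^ 2 =
      (Complex.exp (2 * u * Complex.I) - Complex.exp (2 * t * Complex.I)) *
        (Complex.exp (-(2 * u * Complex.I)) - Complex.exp (-(2 * t * Complex.I))) := by
  have e : ∀ z : ℂ, Complex.exp (2 * z * Complex.I) = Complex.exp (z * Complex.I) ^ 2 := fun z => by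
    rw [← Complex.exp_nat_mul]; congr 1; push_cast; ring
  rw [Complex.exp_neg, Complex.exp_neg, e, e, Complex.sin, neg_mul, Complex.exp_neg,
    show (t - u) * Complex.I = t * Complex.I - u * Complex.I by ring, Complex.exp_sub]
  have ht := Complex.exp_ne_zero (t * Complex.I)
  have hu := Complex.exp_ne_zero (u * Complex.I)
  field_simp
  rw [Complex.I_sq]
  ring

/-- The sine product is the squared Vandermonde. -/
theorem sin_prod (v : Fin r → ℕ) :
    ((∏ p ∈ (Finset.univ : Finset (Fin r × Fin r)).filter (fun p => p.1 < p.2),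
        ((2 : ℝ) * Real.sin (Real.pi * ((v p.1 : ℝ) - (v p.2 : ℝ)) / (n : ℝ))) ^ 2 : ℝ) : ℂ) =
      D (del n r) (fun j => (v j : ZMod n)) * D (-del n r) (fun j => (v j : ZMod n)) := by
  have hs : ((Equiv.Perm.sign (Fin.revPerm : Equiv.Perm (Fin r)) : ℤ) : ℂ) *
      ((Equiv.Perm.sign (Fin.revPerm : Equiv.Perm (Fin r)) : ℤ) : ℂ) = 1 := by
    rcases Int.units_eq_one_or (Equiv.Perm.sign (Fin.revPerm : Equiv.Perm (Fin r))) with h | h <;>
      simp [h]
  rw [D_neg, D_del, D_del, mul_mul_mul_comm, hs, one_mul, Matrix.det_vandermonde,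
    Matrix.det_vandermonde, prod_pairs (fun i j : Fin r =>
      ((2 : ℝ) * Real.sin (Real.pi * ((v i : ℝ) - (v j : ℝ)) / (n : ℝ))) ^ 2),
    ← Finset.prod_mul_distrib]
  push_cast
  refine Finset.prod_congr rfl fun i _ => ?_
  rw [← Finset.prod_mul_distrib]
  refine Finset.prod_congr rfl fun j _ => ?_
  simp only [Pi.neg_apply, AddChar.map_neg_eq_inv, char_natCast]
  rw [show (Real.pi : ℂ) * ((v i : ℂ) - (v j : ℂ)) / (n : ℂ) =
    Real.pi * (v i : ℂ) / n - Real.pi * (v j : ℂ) / n by ring, sin_sq, ← Complex.exp_neg,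
    ← Complex.exp_neg]
  congr 3 <;> ring

theorem del_add_rev (n r : ℕ) (i : Fin r) :
    del n r i + del n r i.rev = ((r - 1 : ℕ) : ZMod n) := by
  have h : (r - 1 - (i : ℕ)) + (r - 1 - (i.rev : ℕ)) = r - 1 := by
    have := i.isLt; rw [Fin.val_rev]; omega
  unfold del
  rw [← Nat.cast_add, h]

theorem D_neg_del (w : Fin r → ZMod n) : D (-del n r) w =
    ((Equiv.Perm.sign (Fin.revPerm : Equiv.Perm (Fin r)) : ℤ) : ℂ) *
      ZMod.stdAddChar (-((r - 1 : ℕ) : ZMod n) * ∑ j, w j) * D (del n r) w := by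
  have : -del n r = fun i => del n r (Fin.revPerm i) + -((r - 1 : ℕ) : ZMod n) := by
    funext i
    rw [Fin.revPerm_apply, ← del_add_rev n r i, Pi.neg_apply]
    ring
  rw [this, D_shift_left (fun i => del n r (Fin.revPerm i))]
  rw [show (fun i => del n r (Fin.revPerm i)) = del n r ∘ Fin.revPerm from rfl, D_perm_left]
  ring

theorem D_del_ne_zero {v : Fin r → Fin n} (hv : Function.Injective v) :
    D (del n r) (cls v) ≠ 0 := by
  rw [D_del]
  refine mul_ne_zero (by exact_mod_cast Units.ne_zero _) (Matrix.det_vandermonde_ne_zero_iff.2 ?_)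
  exact fun i j h => hv (cls_inj (ZMod.injective_stdAddChar h))

theorem del_injective (h : r ≤ n) : Function.Injective (del n r) := by
  intro i j hij
  have := congrArg ZMod.val hij
  have hi := i.isLt
  have hj := j.isLt
  unfold del at this
  rw [ZMod.val_natCast_of_lt (by omega), ZMod.val_natCast_of_lt (by omega)] at this
  exact Fin.ext (by omega)

variable {p : ℕ}

/-- Rotation of an index vector. -/
def rot (v : Fin (p + 2) → Fin n) (j : Fin (p + 2)) : Fin n :=
  v ((finRotate (p + 2)).symm j) - v (Fin.last p).castSucc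

theorem symm_rotate_succ (i : Fin (p + 1)) :
    (finRotate (p + 2)).symm i.succ = i.castSucc := by
  rw [Equiv.symm_apply_eq]
  ext
  rw [coe_finRotate]
  simp [Fin.ext_iff, Nat.ne_of_lt i.isLt]

theorem symm_rotate_zero : (finRotate (p + 2)).symm 0 = Fin.last (p + 1) := by
  rw [Equiv.symm_apply_eq, finRotate_last]

theorem mem_idx {v : Fin r → Fin n} : v ∈ idx n r ↔
    StrictAnti v ∧ ∀ i : Fin r, (i : ℕ) = r - 1 → (v i : ℕ) = 0 := by
  simp [idx]

section
variable {v : Fin (p + 2) → Fin n} (hv : v ∈ idx n (p + 2))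
include hv

theorem rot_val_succ (i : Fin (p + 1)) :
    (rot v i.succ : ℕ) = (v i.castSucc : ℕ) - (v (Fin.last p).castSucc : ℕ) ∧
      (v (Fin.last p).castSucc : ℕ) ≤ (v i.castSucc : ℕ) := by
  have h := (mem_idx.1 hv).1.antitone (Fin.castSucc_le_castSucc_iff.2 (Fin.le_last i))
  exact ⟨by rw [rot, symm_rotate_succ, Fin.sub_val_of_le h], h⟩

theorem rot_val_zero : (rot v 0 : ℕ) = n - (v (Fin.last p).castSucc : ℕ) ∧
    0 < (v (Fin.last p).castSucc : ℕ) := by
  have h0 := (mem_idx.1 hv).2 (Fin.last (p + 1)) (by simp)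
  have hpos : (v (Fin.last p).castSucc : ℕ) > (v (Fin.last (p + 1)) : ℕ) :=
    (mem_idx.1 hv).1 (Fin.castSucc_lt_last _)
  rw [h0] at hpos
  refine ⟨?_, hpos⟩
  rw [rot, symm_rotate_zero, Fin.val_sub, h0, add_zero]
  exact Nat.mod_eq_of_lt (by omega)

theorem rot_mem : rot v ∈ idx n (p + 2) := by
  obtain ⟨h0, hpos⟩ := rot_val_zero hv
  refine mem_idx.2 ⟨Fin.strictAnti_iff_succ_lt.2 fun i => ?_, fun i hi => ?_⟩
  · obtain ⟨e1, le1⟩ := rot_val_succ hv i
    rw [Fin.lt_def, e1]
    refine Fin.cases ?_ (fun j => ?_) i (motive := fun i : Fin (p + 1) =>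
      (v i.castSucc : ℕ) - (v (Fin.last p).castSucc : ℕ) < (rot v i.castSucc : ℕ))
    · rw [Fin.castSucc_zero, h0]
      have := (v 0).isLt
      omega
    · rw [← Fin.succ_castSucc]
      obtain ⟨e2, le2⟩ := rot_val_succ hv j.castSucc
      have := (rot_val_succ hv j.succ).2
      rw [Fin.succ_castSucc] at *
      have h3 : (v j.succ.castSucc : ℕ) < (v j.castSucc.castSucc : ℕ) :=
        (mem_idx.1 hv).1 (by rw [Fin.lt_def]; simp)
      omega
  · have : i = (Fin.last p).succ := Fin.ext (by simp at hi ⊢; omega)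
    subst this
    rw [(rot_val_succ hv _).1, Nat.sub_self]

theorem cls_rot : cls (rot v) =
    fun j => (cls v ∘ (finRotate (p + 2)).symm) j + -cls v (Fin.last p).castSucc := by
  funext j
  simp only [cls, Function.comp_apply, rot, Fin.val_sub, ZMod.natCast_mod, Nat.cast_add,
    Nat.cast_sub (Fin.isLt _).le, ZMod.natCast_self]
  ring

theorem sum_rot : (∑ j, (rot v j : ℕ)) + (p + 2) * (v (Fin.last p).castSucc : ℕ) =
    (∑ j, (v j : ℕ)) + n := by
  have h0 := (mem_idx.1 hv).2 (Fin.last (p + 1)) (by simp)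
  rw [Fin.sum_univ_succ, (rot_val_zero hv).1, Fin.sum_univ_castSucc (fun j => (v j : ℕ)), h0,
    add_zero]
  have : ∑ i : Fin (p + 1), (v i.castSucc : ℕ) =
      (∑ i : Fin (p + 1), (rot v i.succ : ℕ)) + (p + 1) * (v (Fin.last p).castSucc : ℕ) := by
    rw [show (p + 1) * (v (Fin.last p).castSucc : ℕ) =
      ∑ _i : Fin (p + 1), (v (Fin.last p).castSucc : ℕ) by simp, ← Finset.sum_add_distrib]
    refine Finset.sum_congr rfl fun i _ => ?_
    obtain ⟨e, le⟩ := rot_val_succ hv i
    omega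
  have hlt := (v (Fin.last p).castSucc).isLt
  rw [this]
  ring_nf
  omega

end

theorem rot_bij {M : Type*} [AddCommMonoid M] (f : (Fin (p + 2) → Fin n) → M) :
    ∑ v ∈ idx n (p + 2), f (rot v) = ∑ v ∈ idx n (p + 2), f v := by
  classical
  have hinj : Set.InjOn (rot (n := n) (p := p)) (idx n (p + 2) : Set (Fin (p + 2) → Fin n)) := by
    intro v hv w hw h
    simp only [Finset.mem_coe] at hv hw
    have e0 := congrArg (fun x => (x 0 : ℕ)) h
    simp only [(rot_val_zero hv).1, (rot_val_zero hw).1] at e0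
    have hs : v (Fin.last p).castSucc = w (Fin.last p).castSucc := by
      apply Fin.ext
      have := (v (Fin.last p).castSucc).isLt
      have := (w (Fin.last p).castSucc).isLt
      omega
    funext j
    have := congrFun h (finRotate (p + 2) j)
    simpa [rot, hs] using this
  have himg : (idx n (p + 2)).image rot = idx n (p + 2) :=
    Finset.eq_of_subset_of_card_le
      (Finset.image_subset_iff.2 fun v hv => rot_mem hv)
      (by rw [Finset.card_image_of_injOn hinj])
  conv_rhs => rw [← himg, Finset.sum_image hinj]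

/-- The twisted summand, before assuming `r ∣ A`. -/
noncomputable def tw (A : ℕ) (a b : Fin (p + 2) → ZMod n) (v : Fin (p + 2) → Fin n) : ℂ :=
  Complex.exp (-(2 * Real.pi * Complex.I * A * ((∑ j, (v j : ℕ) : ℕ) : ℂ) /
    (((p + 2 : ℕ) : ℂ) * n))) * D a (cls v) * D b (cls v)

theorem sum_tw_eq_zero (A : ℕ) (a b : Fin (p + 2) → ZMod n)
    (hA : ∑ i, a i + ∑ i, b i = (A : ZMod n)) (hdvd : ¬ (p + 2) ∣ A) :
    ∑ v ∈ idx n (p + 2), tw A a b v = 0 := by
  set ρ : ℂ := Complex.exp (-(2 * Real.pi * Complex.I * A / ((p + 2 : ℕ) : ℂ))) with hρ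
  have hstep : ∀ v ∈ idx n (p + 2), tw A a b (rot v) = ρ * tw A a b v := by
    intro v hv
    have hn : (n : ℂ) ≠ 0 := Nat.cast_ne_zero.2 (NeZero.ne n)
    have hr : ((p + 2 : ℕ) : ℂ) ≠ 0 := Nat.cast_ne_zero.2 (by omega)
    set s := (v (Fin.last p).castSucc : ℕ) with hs
    have hsum : ((∑ j, (rot v j : ℕ) : ℕ) : ℂ) =
        ((∑ j, (v j : ℕ) : ℕ) : ℂ) + n - ((p + 2 : ℕ) : ℂ) * s := by
      rw [eq_sub_iff_add_eq, ← Nat.cast_mul, ← Nat.cast_add, ← Nat.cast_add, hs, sum_rot hv]
    have hexp : Complex.exp (-(2 * Real.pi * Complex.I * A * ((∑ j, (rot v j : ℕ) : ℕ) : ℂ) /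
        (((p + 2 : ℕ) : ℂ) * n))) = ρ * Complex.exp (-(2 * Real.pi * Complex.I * A *
          ((∑ j, (v j : ℕ) : ℕ) : ℂ) / (((p + 2 : ℕ) : ℂ) * n))) *
          ZMod.stdAddChar ((A * s : ℕ) : ZMod n) := by
      rw [char_natCast, hρ, ← Complex.exp_add, ← Complex.exp_add, hsum]
      congr 1
      field_simp
      push_cast
      ring
    have hsg : ((Equiv.Perm.sign (finRotate (p + 2)).symm : ℤ) : ℂ) *
        ((Equiv.Perm.sign (finRotate (p + 2)).symm : ℤ) : ℂ) = 1 := by
      rcases Int.units_eq_one_or (Equiv.Perm.sign (finRotate (p + 2)).symm) with h | h <;> simp [h]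
    have hch : (ZMod.stdAddChar ((A * s : ℕ) : ZMod n) : ℂ) *
        ZMod.stdAddChar ((∑ i, a i) * -cls v (Fin.last p).castSucc) *
        ZMod.stdAddChar ((∑ i, b i) * -cls v (Fin.last p).castSucc) = 1 := by
      rw [← AddChar.map_add_eq_mul, ← AddChar.map_add_eq_mul]
      convert AddChar.map_zero_eq_one (ZMod.stdAddChar (N := n))
      rw [Nat.cast_mul, ← hA, cls_apply, ← hs]
      ring
    simp only [tw]
    rw [hexp, cls_rot hv, D_add, D_add, D_perm, D_perm]
    linear_combination (ρ * Complex.exp (-(2 * Real.pi * Complex.I * A *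
        ((∑ j, (v j : ℕ) : ℕ) : ℂ) / (((p + 2 : ℕ) : ℂ) * n))) * D a (cls v) * D b (cls v)) *
      (((Equiv.Perm.sign (finRotate (p + 2)).symm : ℤ) : ℂ) ^ 2 * hch + hsg)
  have h1 : ∑ v ∈ idx n (p + 2), tw A a b v = ρ * ∑ v ∈ idx n (p + 2), tw A a b v := by
    conv_lhs => rw [← rot_bij]
    rw [Finset.mul_sum]
    exact Finset.sum_congr rfl hstep
  have hρ1 : ρ ≠ 1 := by
    intro h
    apply hdvd
    have h2 : (ZMod.stdAddChar ((A : ℕ) : ZMod (p + 2)) : ℂ) = 1 := by
      rw [char_natCast]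
      rw [hρ, Complex.exp_neg, inv_eq_one] at h
      exact h
    rw [← AddChar.map_zero_eq_one (ZMod.stdAddChar (N := p + 2))] at h2
    exact (ZMod.natCast_eq_zero_iff _ _).1 (ZMod.injective_stdAddChar h2) 
  have : (1 - ρ) * ∑ v ∈ idx n (p + 2), tw A a b v = 0 := by linear_combination h1
  exact (mul_eq_zero.1 this).resolve_left (sub_ne_zero.2 (Ne.symm hρ1))

end Groth.Agent.Verlinde
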