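import Mathlib.Analysis.SpecialFunctions.Complex.CircleAddChar
import Mathlib.LinearAlgebra.Vandermonde
import Mathlib.Data.Fin.Tuple.Sort
import Mathlib.NumberTheory.LegendreSymbol.AddCharacter
import Mathlib.Tactic

/-! Character determinants on `ZMod n`. -/

namespace Groth.Agent.Verlinde

open Finset Matrix

variable {n r : ℕ} [NeZero n]

/-- `det (χ (a i * w j))`. -/
noncomputable def D (a w : Fin r → ZMod n) : ℂ :=
  (Matrix.of fun i j => ZMod.stdAddChar (a i * w j)).det

theorem D_add (a w : Fin r → ZMod n) (x : ZMod n) :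
    D a (fun j => w j + x) = ZMod.stdAddChar ((∑ i, a i) * x) * D a w := by
  rw [Finset.sum_mul, ← map_nsmul_prod]
  simp only [D, mul_add, AddChar.map_add_eq_mul]
  rw [← Matrix.det_mul_column]
  congr 1
  ext i j
  simp [mul_comm]
where
  map_nsmul_prod {s : Fin r → ZMod n} :
      (∏ i, ZMod.stdAddChar (s i) : ℂ) = ZMod.stdAddChar (∑ i, s i) := by
    classical
    induction (Finset.univ : Finset (Fin r)) using Finset.induction with
    | empty => simp
    | insert a s ha ih => rw [Finset.prod_insert ha, Finset.sum_insert ha, AddChar.map_add_eq_mul, ih]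

theorem char_sum (s : Fin r → ZMod n) :
    (ZMod.stdAddChar (∑ i, s i) : ℂ) = ∏ i, ZMod.stdAddChar (s i) :=
  (D_add.map_nsmul_prod).symm

theorem D_perm (a w : Fin r → ZMod n) (σ : Equiv.Perm (Fin r)) :
    D a (w ∘ σ) = ((Equiv.Perm.sign σ : ℤ) : ℂ) * D a w := by
  rw [D, D, ← Matrix.det_permute']
  rfl

theorem D_perm_left (a w : Fin r → ZMod n) (σ : Equiv.Perm (Fin r)) :
    D (a ∘ σ) w = ((Equiv.Perm.sign σ : ℤ) : ℂ) * D a w := by
  rw [D, D, ← Matrix.det_permute]
  rfl

theorem D_shift_left (a w : Fin r → ZMod n) (x : ZMod n) :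
    D (fun i => a i + x) w = ZMod.stdAddChar (x * ∑ j, w j) * D a w := by
  rw [Finset.mul_sum, char_sum]
  simp only [D, add_mul, AddChar.map_add_eq_mul]
  rw [← Matrix.det_mul_row]
  congr 1
  ext i j
  simp [mul_comm]

theorem D_eq_zero (a : Fin r → ZMod n) {w : Fin r → ZMod n} (h : ¬ Function.Injective w) :
    D a w = 0 := by
  simp only [Function.Injective, not_forall] at h
  obtain ⟨i, j, hij, hne⟩ := h
  exact Matrix.det_zero_of_column_eq hne fun k => by simp [hij]

/-- The symmetric, translation invariant summand. -/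
noncomputable def G (a b : Fin r → ZMod n) (m : ZMod n) (w : Fin r → ZMod n) : ℂ :=
  ZMod.stdAddChar (-m * ∑ j, w j) * D a w * D b w

theorem G_add (a b : Fin r → ZMod n) {m : ZMod n} (h : ∑ i, a i + ∑ i, b i = (r : ZMod n) * m)
    (w : Fin r → ZMod n) (x : ZMod n) : G a b m (fun j => w j + x) = G a b m w := by
  have e : (∑ j, (w j + x)) = ∑ j, w j + (r : ZMod n) * x := by simp [Finset.sum_add_distrib]
  rw [G, D_add, D_add, e, G]
  have key : -m * (∑ j, w j + (r : ZMod n) * x) + (∑ i, a i) * x + (∑ i, b i) * x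
      = -m * ∑ j, w j := by linear_combination x * h
  conv_rhs => rw [← key, AddChar.map_add_eq_mul, AddChar.map_add_eq_mul]
  ring

theorem G_perm (a b : Fin r → ZMod n) (m : ZMod n) (w : Fin r → ZMod n) (σ : Equiv.Perm (Fin r)) :
    G a b m (w ∘ σ) = G a b m w := by
  have hs : ((Equiv.Perm.sign σ : ℤ) : ℂ) * ((Equiv.Perm.sign σ : ℤ) : ℂ) = 1 := by
    rcases Int.units_eq_one_or (Equiv.Perm.sign σ) with h | h <;> simp [h]
  rw [G, G, D_perm, D_perm, show ∑ j, (w ∘ σ) j = ∑ j, w j from Equiv.sum_comp σ w]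
  linear_combination (ZMod.stdAddChar (-m * ∑ j, w j) * D a w * D b w) * hs

theorem sum_G (a b : Fin r → ZMod n) (m : ZMod n) :
    ∑ w : Fin r → ZMod n, G a b m w = ∑ σ : Equiv.Perm (Fin r), ∑ τ : Equiv.Perm (Fin r),
      ((Equiv.Perm.sign σ : ℤ) : ℂ) * ((Equiv.Perm.sign τ : ℤ) : ℂ) *
        ∏ j, if a (σ j) + b (τ j) = m then (n : ℂ) else 0 := by
  have h1 : ∀ w : Fin r → ZMod n, G a b m w =
      ∑ σ : Equiv.Perm (Fin r), ∑ τ : Equiv.Perm (Fin r),
      ((Equiv.Perm.sign σ : ℤ) : ℂ) * ((Equiv.Perm.sign τ : ℤ) : ℂ) *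
        ∏ j, (ZMod.stdAddChar (w j * (a (σ j) + b (τ j) - m)) : ℂ) := by
    intro w
    rw [G, D, D, Matrix.det_apply', Matrix.det_apply', mul_assoc, Finset.sum_mul_sum, Finset.mul_sum]
    refine Finset.sum_congr rfl fun σ _ => ?_
    rw [Finset.mul_sum]
    refine Finset.sum_congr rfl fun τ _ => ?_
    have : ∀ j, (ZMod.stdAddChar (w j * (a (σ j) + b (τ j) - m)) : ℂ) =
        ZMod.stdAddChar (-m * w j) * ZMod.stdAddChar (a (σ j) * w j) *
          ZMod.stdAddChar (b (τ j) * w j) := by
      intro j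
      rw [← AddChar.map_add_eq_mul, ← AddChar.map_add_eq_mul]
      congr 1; ring
    simp only [Matrix.of_apply, this, Finset.prod_mul_distrib, ← char_sum, ← Finset.mul_sum]
    ring
  simp only [h1]
  rw [Finset.sum_comm]
  refine Finset.sum_congr rfl fun σ _ => ?_
  rw [Finset.sum_comm]
  refine Finset.sum_congr rfl fun τ _ => ?_
  rw [← Finset.mul_sum]
  congr 1
  rw [← Fintype.prod_sum (fun j x => (ZMod.stdAddChar (x * (a (σ j) + b (τ j) - m)) : ℂ))]
  refine Finset.prod_congr rfl fun j _ => ?_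
  rw [AddChar.sum_mulShift _ (ZMod.isPrimitive_stdAddChar n)]
  by_cases h : a (σ j) + b (τ j) = m
  · rw [if_pos h, if_pos (sub_eq_zero.2 h)]; simp
  · rw [if_neg h, if_neg (sub_ne_zero.2 h)]; simp

theorem sum_G_eq_zero (a b : Fin r → ZMod n) (m : ZMod n)
    (h : ∀ π : Equiv.Perm (Fin r), ∃ i, a i + b (π i) ≠ m) :
    ∑ w : Fin r → ZMod n, G a b m w = 0 := by
  rw [sum_G]
  refine Finset.sum_eq_zero fun σ _ => Finset.sum_eq_zero fun τ _ => ?_
  obtain ⟨i, hi⟩ := h (σ.symm.trans τ)
  rw [Finset.prod_eq_zero (Finset.mem_univ (σ.symm i)), mul_zero]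
  rw [if_neg (by simpa using hi)]

theorem sum_G_neg (a : Fin r → ZMod n) (ha : Function.Injective a) :
    ∑ w : Fin r → ZMod n, G a (-a) 0 w = (r.factorial : ℂ) * (n : ℂ) ^ r := by
  rw [sum_G]
  have : ∀ σ : Equiv.Perm (Fin r), ∑ τ : Equiv.Perm (Fin r),
      ((Equiv.Perm.sign σ : ℤ) : ℂ) * ((Equiv.Perm.sign τ : ℤ) : ℂ) *
        (∏ j, if a (σ j) + (-a) (τ j) = 0 then (n : ℂ) else 0) = (n : ℂ) ^ r := by
    intro σ
    rw [Finset.sum_eq_single σ]
    · rcases Int.units_eq_one_or (Equiv.Perm.sign σ) with h | h <;> simp [h]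
    · intro τ _ hne
      obtain ⟨j, hj⟩ : ∃ j, τ j ≠ σ j := by
        by_contra h; push Not at h; exact hne (Equiv.ext h)
      rw [Finset.prod_eq_zero (Finset.mem_univ j), mul_zero]
      rw [if_neg]
      simpa [← sub_eq_add_neg, sub_eq_zero] using fun h => hj (ha h).symm
    · simp
  rw [Finset.sum_congr rfl fun σ _ => this σ]
  simp [Fintype.card_perm]

/-- Decreasing index vectors ending at `0`. -/
def idx (n r : ℕ) : Finset (Fin r → Fin n) :=
  (Finset.univ : Finset (Fin r → Fin n)).filter
    (fun v : Fin r → Fin n => StrictAnti v ∧ ∀ i : Fin r, (i : ℕ) = r - 1 → (v i : ℕ) = 0)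

/-- The class of an index vector. -/
def cls (v : Fin r → Fin n) : Fin r → ZMod n := fun j => ((v j : ℕ) : ZMod n)

theorem cls_apply (v : Fin r → Fin n) (j : Fin r) : cls v j = ((v j : ℕ) : ZMod n) := rfl

theorem cls_inj {v : Fin r → Fin n} {i j : Fin r} (h : cls v i = cls v j) : v i = v j := by
  apply Fin.ext
  have := congrArg ZMod.val h
  rwa [cls_apply, cls_apply, ZMod.val_natCast_of_lt (v i).isLt, ZMod.val_natCast_of_lt (v j).isLt]
    at this

/-- Reduction of the sum over all vectors to normalised decreasing ones. -/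
theorem r_mul_sum_G (hr0 : 0 < r) (a b : Fin r → ZMod n) {m : ZMod n}
    (h : ∑ i, a i + ∑ i, b i = (r : ZMod n) * m) :
    (r : ℂ) * ∑ w : Fin r → ZMod n, G a b m w =
      (n : ℂ) * (r.factorial : ℂ) * ∑ v ∈ idx n r, G a b m (cls v) := by
  classical
  have hA : ∀ j : Fin r, (n : ℂ) * ∑ w : Fin r → ZMod n, (if w j = 0 then G a b m w else 0) =
      ∑ w : Fin r → ZMod n, G a b m w := by
    intro j
    have : ∀ x : ZMod n, ∑ w : Fin r → ZMod n, (if w j = x then G a b m w else 0) =
        ∑ w : Fin r → ZMod n, (if w j = 0 then G a b m w else 0) := by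
      intro x
      rw [← Equiv.sum_comp (Equiv.addRight fun _ : Fin r => x)]
      refine Finset.sum_congr rfl fun w _ => ?_
      have := G_add a b h w x
      simp [Pi.add_def, this]
    calc (n : ℂ) * ∑ w : Fin r → ZMod n, (if w j = 0 then G a b m w else 0)
        = ∑ x : ZMod n, ∑ w : Fin r → ZMod n, (if w j = x then G a b m w else 0) := by
          rw [Finset.sum_congr rfl fun x _ => this x]; simp
      _ = _ := by rw [Finset.sum_comm]; simp
  have hB : ∑ j : Fin r, ∑ w : Fin r → ZMod n, (if w j = 0 then G a b m w else 0) =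
      (r.factorial : ℂ) * ∑ v ∈ idx n r, G a b m (cls v) := by
    rw [Finset.sum_comm]
    have e1 : ∀ w : Fin r → ZMod n, ∑ j : Fin r, (if w j = 0 then G a b m w else 0) =
        if Function.Injective w ∧ ∃ j, w j = 0 then G a b m w else 0 := by
      intro w
      by_cases hw : Function.Injective w
      · by_cases hz : ∃ j, w j = 0
        · obtain ⟨j, hj⟩ := hz
          rw [if_pos ⟨hw, j, hj⟩, Finset.sum_eq_single j]
          · rw [if_pos hj]
          · intro i _ hi; rw [if_neg fun h' => hi (hw (h'.trans hj.symm))]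
          · simp
        · push Not at hz
          rw [if_neg fun h' => (hz h'.2.choose) h'.2.choose_spec]
          exact Finset.sum_eq_zero fun j _ => if_neg (hz j)
      · rw [if_neg fun h' => hw h'.1]
        exact Finset.sum_eq_zero fun j _ => by simp [G, D_eq_zero a hw]
    simp only [e1]
    rw [← Finset.sum_filter]
    have hperm : (r.factorial : ℂ) * ∑ v ∈ idx n r, G a b m (cls v) =
        ∑ x ∈ (Finset.univ : Finset (Equiv.Perm (Fin r))) ×ˢ idx n r, G a b m (cls x.2 ∘ x.1) := by
      rw [Finset.sum_product]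
      simp [G_perm, Finset.card_univ, Fintype.card_perm]
    rw [hperm]
    refine (Finset.sum_bij (fun x _ => cls x.2 ∘ x.1) ?_ ?_ ?_ fun _ _ => rfl).symm
    · rintro ⟨σ, v⟩ hv
      simp only [Finset.mem_product, idx, Finset.mem_filter, Finset.mem_univ, true_and] at hv ⊢
      refine ⟨fun i j hij => σ.injective (hv.1.injective (cls_inj hij)),
        σ.symm ⟨r - 1, by omega⟩, ?_⟩
      simp [cls_apply, hv.2 ⟨r - 1, by omega⟩ rfl]
    · rintro ⟨σ, v⟩ hv ⟨σ', v'⟩ hv' heq
      simp only [Finset.mem_product, idx, Finset.mem_filter, Finset.mem_univ, true_and] at hv hv'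
      have hvv : ∀ i, v (σ i) = v' (σ' i) := fun i => by
        apply Fin.ext
        have := congrArg ZMod.val (congrFun heq i)
        simp only [Function.comp_apply, cls_apply, ZMod.val_natCast_of_lt (Fin.isLt _)] at this
        exact this
      have hrange : Set.range (v ∘ Fin.rev) = Set.range (v' ∘ Fin.rev) := by
        rw [Fin.rev_surjective.range_comp, Fin.rev_surjective.range_comp]
        calc Set.range v = Set.range (v ∘ σ) := (σ.surjective.range_comp v).symm
          _ = Set.range (v' ∘ σ') := congrArg Set.range (funext hvv)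
          _ = Set.range v' := σ'.surjective.range_comp v'
      have m1 : StrictMono (v ∘ Fin.rev) := fun i j hij => hv.1 (Fin.rev_lt_rev.2 hij)
      have m2 : StrictMono (v' ∘ Fin.rev) := fun i j hij => hv'.1 (Fin.rev_lt_rev.2 hij)
      have heq' : v = v' := by
        have := (StrictMono.range_inj m1 m2).1 hrange
        funext i
        simpa using congrFun this i.rev
      subst heq'
      exact Prod.ext (Equiv.ext fun i => hv.1.injective (hvv i)) rfl
    · intro w hw
      simp only [Finset.mem_filter, Finset.mem_univ, true_and] at hw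
      obtain ⟨hinj, j₀, hj₀⟩ := hw
      let u : Fin r → Fin n := fun i => ⟨(w i).val, ZMod.val_lt _⟩
      have huinj : Function.Injective u := fun i j hij => hinj (ZMod.val_injective _ (congrArg Fin.val hij))
      let π : Equiv.Perm (Fin r) := Fin.revPerm.trans (Tuple.sort u)
      have hanti : StrictAnti (u ∘ π) := by
        intro i j hij
        have := ((Tuple.monotone_sort u).strictMono_of_injective
          (huinj.comp (Tuple.sort u).injective)) (Fin.rev_lt_rev.2 hij)
        simpa [π] using this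
      refine ⟨(π.symm, u ∘ π), ?_, ?_⟩
      · simp only [Finset.mem_product, idx, Finset.mem_filter, Finset.mem_univ, true_and]
        refine ⟨hanti, fun i hi => ?_⟩
        have h1 : (u ∘ π) i ≤ (u ∘ π) (π.symm j₀) := by
          refine hanti.antitone ?_
          rw [Fin.le_def]
          have := (π.symm j₀).isLt
          omega
        simp only [Function.comp_apply, Equiv.apply_symm_apply, Fin.le_def] at h1
        have h2 : (u j₀ : ℕ) = 0 := by simp [u, hj₀]
        simp only [Function.comp_apply]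
        omega
      · funext i
        simp [cls_apply, u]
  calc (r : ℂ) * ∑ w : Fin r → ZMod n, G a b m w
      = ∑ j : Fin r, (n : ℂ) * ∑ w : Fin r → ZMod n, (if w j = 0 then G a b m w else 0) := by
        simp [hA]
    _ = _ := by rw [← Finset.mul_sum, hB, mul_assoc]

end Groth.Agent.Verlinde
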